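import Cfsg.Agent.Lib.Helper12.TCG.Fi22Ub33792.Fin0
import Cfsg.Agent.Lib.Helper12.TCG.Fi22Ub33792.Fin1
import Cfsg.Agent.Lib.Helper12.TCG.Fi22Ub33792.Fin2
import Cfsg.Agent.Lib.Helper12.TCG.Fi22Ub33792.Fin3
import Cfsg.Agent.Lib.Helper12.TCG.Fi22Ub33792.Fin4
import Cfsg.Agent.Lib.Helper12.TCG.Fi22Ub33792.Fin5
import Cfsg.Agent.Lib.Helper12.TCG.Fi22Ub33792.Fin6
import Cfsg.Agent.Lib.Helper12.TCG.Fi22Ub33792.Fin7
import Cfsg.Agent.Lib.Helper12.TCG.Fi22Ub33792.Fin8
import Cfsg.Agent.Lib.Helper12.Fi22M.PresU3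

/-! the final table for Fi22Ub33792 (generated, helper12) -/

set_option autoImplicit false
set_option maxRecDepth 100000
set_option linter.unusedSimpArgs false
set_option Elab.async false

namespace Cfsg.Agent.Lib.Helper12.TCG.Fi22Ub33792

open Cfsg.Agent.Lib.Helper12.TC Cfsg.Agent.Lib.Helper12.TCG Cfsg.Agent.Lib.Helper12.Fi22M.PresU3

theorem hdefs_0 : defsPartK F 0 16384 = true := by decide +kernel

theorem hdefs_1 : defsPartK F 16384 16384 = true := by decide +kernel

theorem hdefs_2 : defsPartK F 32768 16384 = true := by decide +kernel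

theorem hdefs_3 : defsPartK F 49152 16384 = true := by decide +kernel

theorem hdefs_4 : defsPartK F 65536 14822 = true := by decide +kernel

theorem hdefs : defsK F cD = true :=
  defsK_of_OK (defsOK_step hdefs_4 rfl
    (defsOK_step hdefs_3 rfl
    (defsOK_step hdefs_2 rfl
    (defsOK_step hdefs_1 rfl
    (defsOK_step hdefs_0 rfl
    (defsOK_start F))))))

theorem beq_chain {x A B : ℕ} (h1 : Nat.beq x A = true) (h2 : Nat.beq A B = true) :
    Nat.beq x B = true := by
  rw [Nat.eq_of_beq_eq_true h1]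
  exact h2

theorem hlive' : Nat.beq (liveK (fr0 ++ (fr1 ++ (fr2 ++ (fr3 ++ (fr4 ++ (fr5 ++ (fr6 ++ (fr7 ++ (fr8)))))))))) (Nat.lor LIVE0 (Nat.lor LIVE1 (Nat.lor LIVE2 (Nat.lor LIVE3 (Nat.lor LIVE4 (Nat.lor LIVE5 (Nat.lor LIVE6 (Nat.lor LIVE7 (LIVE8))))))))) = true :=
  (liveK_append_beq hlive_0 (liveK_append_beq hlive_1 (liveK_append_beq hlive_2 (liveK_append_beq hlive_3 (liveK_append_beq hlive_4 (liveK_append_beq hlive_5 (liveK_append_beq hlive_6 (liveK_append_beq hlive_7 hlive_8))))))))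

theorem hliveq : Nat.beq (Nat.lor LIVE0 (Nat.lor LIVE1 (Nat.lor LIVE2 (Nat.lor LIVE3 (Nat.lor LIVE4 (Nat.lor LIVE5 (Nat.lor LIVE6 (Nat.lor LIVE7 (LIVE8))))))))) LIVE = true := by decide +kernel

theorem hlive : Nat.beq (liveK finrecs) LIVE = true := by
  unfold finrecs
  exact beq_chain hlive' hliveq

theorem hlive0 : bitK LIVE 0 = true := by decide +kernel

theorem hfin : finG cIV F cK 6 finrecs = true :=
  finG_of_parts hlive hlive0 (Fn.allListK_append hfin_0 (Fn.allListK_append hfin_1 (Fn.allListK_append hfin_2 (Fn.allListK_append hfin_3 (Fn.allListK_append hfin_4 (Fn.allListK_append hfin_5 (Fn.allListK_append hfin_6 (Fn.allListK_append hfin_7 hfin_8))))))))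

theorem hlen : finrecs.length = cN := by
  simp only [finrecs, List.length_append]
  decide +kernel

theorem hrelc : relCheckK RW cR0 cR baseL rotW sw = true := by
  decide +kernel

theorem hlet : lettersK 6 baseL = true := by decide +kernel

end Cfsg.Agent.Lib.Helper12.TCG.Fi22Ub33792
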